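import Groth.Prelude.Def_LocRes

/-!
Residues of logarithmic differentials and of `f ^ (n-1) df` of Laurent series.
-/

universe u v

open scoped LaurentSeries

open HahnSeries

namespace Groth.Agent.LaurentRes95

variable {R : Type u} [CommRing R] {F : Type v} [Field F]

theorem D_units_zpow (G : (R⸨X⸩)ˣ) (n : ℤ) :
    LocRes.D R ((G ^ n : (R⸨X⸩)ˣ) : R⸨X⸩) = n • (((G ^ (n - 1) : (R⸨X⸩)ˣ) : R⸨X⸩) * LocRes.D R (G : R⸨X⸩)) := by
  induction n using Int.induction_on with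
  | zero => simp [Derivation.map_one_eq_zero, -LocRes.D_apply]
  | succ i ih =>
    rw [zpow_add_one, Units.val_mul, Derivation.leibniz, ih, smul_eq_mul, smul_eq_mul, mul_smul_comm, ← mul_assoc,
      ← Units.val_mul, ← zpow_one_add, add_sub_cancel, add_sub_cancel_right, add_smul, one_smul]
    abel
  | pred i ih =>
    have h1 : ((G ^ (-(i : ℤ) - 1) : (R⸨X⸩)ˣ) : R⸨X⸩) * (G : R⸨X⸩) = ((G ^ (-(i : ℤ)) : (R⸨X⸩)ˣ) : R⸨X⸩) := by
      rw [← Units.val_mul, ← zpow_add_one, sub_add_cancel]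
    have h2 : LocRes.D R (((G ^ (-(i : ℤ) - 1) : (R⸨X⸩)ˣ) : R⸨X⸩) * (G : R⸨X⸩)) = LocRes.D R ((G ^ (-(i : ℤ)) : (R⸨X⸩)ˣ) : R⸨X⸩) :=
      congrArg _ h1
    rw [Derivation.leibniz, ih, smul_eq_mul, smul_eq_mul] at h2
    apply (Units.mul_right_inj G).mp
    rw [mul_smul_comm, ← mul_assoc, ← Units.val_mul, ← zpow_one_add, show (1 : ℤ) + (-(i : ℤ) - 1 - 1) = -(i : ℤ) - 1 by ring,
      eq_sub_of_add_eq' h2, sub_smul, one_smul]

theorem res_D_eq_zero (x : R⸨X⸩) : LocRes.res R (LocRes.D R x) = 0 := by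
  simp [LocRes.res_apply, LocRes.D_coeff, -LocRes.D_apply]

theorem res_zpow_mul_D [IsAddTorsionFree R] (G : (R⸨X⸩)ˣ) {n : ℤ} (hn : n ≠ 0) :
    LocRes.res R (((G ^ (n - 1) : (R⸨X⸩)ˣ) : R⸨X⸩) * LocRes.D R (G : R⸨X⸩)) = 0 := by
  have h := res_D_eq_zero ((G ^ n : (R⸨X⸩)ˣ) : R⸨X⸩)
  rw [D_units_zpow, map_zsmul] at h
  exact (smul_eq_zero.mp h).resolve_left hn

/-- Coefficientwise map of Laurent series. -/
noncomputable def mapLS {S : Type v} [CommRing S] (f : R →+* S) : R⸨X⸩ →+* S⸨X⸩ where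
  toFun x := x.map f
  map_one' := by
    ext n
    simp [HahnSeries.coeff_one, apply_ite f]
  map_mul' x y := HahnSeries.map_mul (f : R →ₙ+* S)
  map_zero' := by ext; simp
  map_add' x y := by ext; simp

theorem mapLS_D {S : Type v} [CommRing S] (f : R →+* S) (x : R⸨X⸩) :
    mapLS f (LocRes.D R x) = LocRes.D S (mapLS f x) := by
  ext n
  simp [mapLS, LocRes.D_coeff, -LocRes.D_apply]

theorem exists_decomp (f : F⸨X⸩) (hf : f ≠ 0) :
    ∃ (m : ℤ) (c : F) (U : PowerSeries F), c ≠ 0 ∧ PowerSeries.constantCoeff U = 1 ∧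
      f = single m c * (U : F⸨X⸩) := by
  have h0 : PowerSeries.constantCoeff f.powerSeriesPart ≠ 0 := by
    rw [← PowerSeries.coeff_zero_eq_constantCoeff_apply, LaurentSeries.powerSeriesPart_coeff, Nat.cast_zero, add_zero]
    exact HahnSeries.coeff_order_eq_zero.not.mpr hf
  set c := PowerSeries.constantCoeff f.powerSeriesPart
  refine ⟨f.order, c, PowerSeries.C c⁻¹ * f.powerSeriesPart, h0, by simp [c, h0], ?_⟩
  conv_lhs => rw [← LaurentSeries.single_order_mul_powerSeriesPart f]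
  rw [PowerSeries.coe_mul, PowerSeries.coe_C, ← mul_assoc]
  simp [HahnSeries.C_apply, h0]

/-- The residue of `f ^ (n - 1) df` vanishes in every characteristic. -/
theorem res_zpow_mul_D_field (f : F⸨X⸩) {n : ℤ} (hn : n ≠ 0) :
    LocRes.res F (f ^ (n - 1) * LocRes.D F f) = 0 := by
  rcases eq_or_ne f 0 with rfl | hf
  · simp [-LocRes.D_apply]
  obtain ⟨m, c, U, hc, hU, rfl⟩ := exists_decomp f hf
  let Ru := MvPolynomial ℕ ℤ
  let ev : Ru →+* F := MvPolynomial.eval₂Hom (Int.castRingHom F) fun i => PowerSeries.coeff i U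
  let Uu : PowerSeries Ru := PowerSeries.mk fun i => if i = 0 then 1 else MvPolynomial.X i
  have hUu : IsUnit Uu := PowerSeries.isUnit_iff_constantCoeff.mpr (by simp [Uu])
  have hG : IsUnit (single m (1 : Ru) * (Uu : Ru⸨X⸩)) :=
    (IsUnit.of_mul_eq_one (single (-m) (1 : Ru)) (by simp)).mul (hUu.map (HahnSeries.ofPowerSeries ℤ Ru))
  have hev : mapLS ev (single m (1 : Ru) * (Uu : Ru⸨X⸩)) = single m 1 * (U : F⸨X⸩) := by
    rw [map_mul]
    congr 1
    · ext j
      simp [mapLS, HahnSeries.coeff_single, apply_ite ev]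
    · ext j
      simp only [mapLS, RingHom.coe_mk, MonoidHom.coe_mk, OneHom.coe_mk, HahnSeries.map_coeff, PowerSeries.coeff_coe]
      split_ifs with hj
      · exact map_zero ev
      · rcases Nat.eq_zero_or_pos j.natAbs with h | h
        · simp [Uu, h, hU]
        · simp [Uu, h.ne', ev]
          exact MvPolynomial.eval₂Hom_X' _ _ _
  have key := congrArg ev (res_zpow_mul_D hG.unit hn)
  rw [map_zero, LocRes.res_apply] at key
  have h1 : (mapLS ev ((hG.unit ^ (n - 1) : (Ru⸨X⸩)ˣ) : Ru⸨X⸩)) = (single m (1 : F) * (U : F⸨X⸩)) ^ (n - 1) := by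
    show ((Units.map (mapLS ev).toMonoidHom (hG.unit ^ (n - 1)) : (F⸨X⸩)ˣ) : F⸨X⸩) = _
    rw [map_zpow, Units.val_zpow_eq_zpow_val]
    congr 1
  have h2 : LocRes.res F ((single m (1 : F) * (U : F⸨X⸩)) ^ (n - 1) * LocRes.D F (single m (1 : F) * (U : F⸨X⸩))) = 0 := by
    rw [← h1, ← hev, ← mapLS_D, ← map_mul, LocRes.res_apply]
    exact key
  have h3 : single m c * (U : F⸨X⸩) = HahnSeries.C c * (single m (1 : F) * (U : F⸨X⸩)) := by
    rw [← mul_assoc, HahnSeries.C_apply, HahnSeries.single_mul_single, zero_add, mul_one]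
  rw [h3, mul_zpow, ← map_zpow₀, Derivation.leibniz, LocRes.D_apply F (HahnSeries.C c), LocRes.derivative_C, smul_zero,
    add_zero, smul_eq_mul, mul_mul_mul_comm, ← map_mul, ← smul_eq_mul, LocRes.res_apply, smul_eq_mul,
    HahnSeries.C_mul_eq_smul, HahnSeries.coeff_smul, ← LocRes.res_apply, h2, smul_zero]

/-- The residue of a logarithmic differential is the order. -/
theorem res_inv_mul_D (f : F⸨X⸩) (hf : f ≠ 0) :
    LocRes.res F (f⁻¹ * LocRes.D F f) = (f.order : F) := by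
  obtain ⟨m, c, U, hc, hU, hfd⟩ := exists_decomp f hf
  have hU0 : (U : F⸨X⸩) ≠ 0 := fun h => hf (by rw [hfd, h, mul_zero])
  have hs : (single m c : F⸨X⸩) ≠ 0 := HahnSeries.single_ne_zero hc
  have hord : f.order = m := by
    rw [hfd, HahnSeries.order_mul hs hU0, HahnSeries.order_single hc]
    have h1 : (U : F⸨X⸩).coeff 0 ≠ 0 := by simp [PowerSeries.coeff_coe, hU]
    have h2 : (U : F⸨X⸩).order = 0 := le_antisymm (HahnSeries.order_le_of_coeff_ne_zero h1)
      (by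
        by_contra hlt
        push Not at hlt
        exact HahnSeries.coeff_order_eq_zero.not.mpr hU0 (by rw [PowerSeries.coeff_coe, if_pos hlt]))
    rw [h2, add_zero]
  obtain ⟨V, hV⟩ := (PowerSeries.isUnit_iff_constantCoeff.mpr (hU.symm ▸ isUnit_one) : IsUnit U).exists_left_inv
  have hinv : ((V : PowerSeries F) : F⸨X⸩) = (U : F⸨X⸩)⁻¹ :=
    eq_inv_of_mul_eq_one_left (by rw [← PowerSeries.coe_mul, hV, PowerSeries.coe_one])
  rw [hord, hfd]
  have hd : LocRes.D F (single m c * (U : F⸨X⸩)) =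
      single m c * LocRes.D F (U : F⸨X⸩) + single (m - 1) (m • c) * (U : F⸨X⸩) := by
    simp only [LocRes.D_apply]
    exact LocRes.derivative_single_mul F m c _
  rw [hd, mul_inv, mul_add, LocRes.res_apply, HahnSeries.coeff_add,
    show (single m c : F⸨X⸩)⁻¹ * (U : F⸨X⸩)⁻¹ * (single m c * LocRes.D F (U : F⸨X⸩)) = ((V * PowerSeries.derivative F U : PowerSeries F) : F⸨X⸩) by
      rw [PowerSeries.coe_mul, hinv, ← LocRes.derivative_coe, ← LocRes.D_apply, mul_mul_mul_comm, inv_mul_cancel₀ hs, one_mul],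
    mul_mul_mul_comm, inv_mul_cancel₀ hU0, mul_one, HahnSeries.inv_single, HahnSeries.single_mul_single]
  rw [PowerSeries.coeff_coe, if_pos (by norm_num), zero_add, show -m + (m - 1) = -1 by ring, HahnSeries.coeff_single_same,
    zsmul_eq_mul, mul_left_comm, inv_mul_cancel₀ hc, mul_one]

end Groth.Agent.LaurentRes95
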